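import Mathlib

/-! Graded Skolem–Noether for endomorphism algebras of graded vector spaces. -/

set_option autoImplicit false
universe u v

namespace Groth.Agent.Lib.Helper5.GSN
open DirectSum

section Proj

variable {k : Type u} [Field k] {V : Type v} [AddCommGroup V] [Module k V]
  (𝒱 : ℤ → Submodule k V) [DirectSum.Decomposition 𝒱]

/-- projection onto a graded piece -/
noncomputable def pr (i : ℤ) : V →ₗ[k] V :=
  (𝒱 i).subtype ∘ₗ DirectSum.component k ℤ (fun i => 𝒱 i) i ∘ₗ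
    (DirectSum.decomposeLinearEquiv 𝒱).toLinearMap

theorem pr_apply (i : ℤ) (x : V) : pr 𝒱 i x = (DirectSum.decompose 𝒱 x i : V) := rfl

theorem pr_mem (i : ℤ) (x : V) : pr 𝒱 i x ∈ 𝒱 i := by
  rw [pr_apply]; exact Submodule.coe_mem _

theorem pr_of_mem {i : ℤ} {x : V} (hx : x ∈ 𝒱 i) : pr 𝒱 i x = x := by
  rw [pr_apply, DirectSum.decompose_of_mem_same 𝒱 hx]

theorem pr_of_mem_ne {i j : ℤ} {x : V} (hx : x ∈ 𝒱 i) (hij : i ≠ j) : pr 𝒱 j x = 0 := by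
  rw [pr_apply, DirectSum.decompose_of_mem_ne 𝒱 hx hij]

theorem eq_of_mem_of_mem {i j : ℤ} {x : V} (hx : x ≠ 0) (hi : x ∈ 𝒱 i) (hj : x ∈ 𝒱 j) : i = j := by
  by_contra hij
  apply hx
  rw [← pr_of_mem 𝒱 hj, pr_of_mem_ne 𝒱 hi hij]

theorem exists_homogeneous_ne_zero [Nontrivial V] : ∃ (i : ℤ) (v : V), v ∈ 𝒱 i ∧ v ≠ 0 := by
  obtain ⟨x, hx⟩ := exists_ne (0 : V)
  by_contra h
  push Not at h
  apply hx
  have : DirectSum.decompose 𝒱 x = 0 := by
    ext i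
    have := h i (pr 𝒱 i x) (pr_mem 𝒱 i x)
    rw [pr_apply] at this
    simpa using this
  have h2 := (DirectSum.decompose 𝒱).injective (this.trans (DirectSum.decompose_zero 𝒱).symm)
  exact h2

end Proj


section Main

variable {k : Type u} [Field k] {V W : Type v} [AddCommGroup V] [Module k V]
  [AddCommGroup W] [Module k W]
  (𝒱 : ℤ → Submodule k V) [DirectSum.Decomposition 𝒱]
  (𝒲 : ℤ → Submodule k W) [DirectSum.Decomposition 𝒲]

/-- a graded-injective linear equivalence that shifts degrees by `n` maps pieces onto pieces -/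
theorem map_eq_of_map_le (T : V ≃ₗ[k] W) (n : ℤ)
    (h : ∀ (j : ℤ) (v : V), v ∈ 𝒱 j → T v ∈ 𝒲 (j + n)) (j : ℤ) :
    Submodule.map (T : V →ₗ[k] W) (𝒱 j) = 𝒲 (j + n) := by
  apply le_antisymm
  · rintro _ ⟨v, hv, rfl⟩
    exact h j v hv
  · intro y hy
    have hcomm : ∀ x : V, pr 𝒲 (j + n) (T x) = T (pr 𝒱 j x) := by
      intro x
      induction x using DirectSum.Decomposition.inductionOn 𝒱 with
      | zero => simp
      | @homogeneous l m =>
        by_cases hl : l = j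
        · subst hl
          rw [pr_of_mem 𝒲 (h l _ m.2), pr_of_mem 𝒱 m.2]
        · rw [pr_of_mem_ne 𝒲 (h l _ m.2) (by omega), pr_of_mem_ne 𝒱 m.2 hl, map_zero]
      | add a c ha hc => rw [map_add, map_add, ha, hc, map_add, map_add]
    refine ⟨pr 𝒱 j (T.symm y), pr_mem 𝒱 j _, ?_⟩
    show T (pr 𝒱 j (T.symm y)) = y
    rw [← hcomm, LinearEquiv.apply_symm_apply, pr_of_mem 𝒲 hy]

theorem main13846 [FiniteDimensional k V] [Nontrivial V] [FiniteDimensional k W]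
    (φ : Module.End k V ≃ₐ[k] Module.End k W)
    (hφ : ∀ (d : ℤ) (f : Module.End k V), (∀ (i : ℤ) (x : V), x ∈ 𝒱 i → f x ∈ 𝒱 (i + d)) →
      ∀ (i : ℤ) (y : W), y ∈ 𝒲 i → φ f y ∈ 𝒲 (i + d)) :
    ∃ (n : ℤ) (g : V ≃ₗ[k] W), (∀ i : ℤ, Submodule.map (g : V →ₗ[k] W) (𝒱 i) = 𝒲 (i + n)) ∧
      (∀ f : Module.End k V, φ f = (g : V →ₗ[k] W) ∘ₗ f ∘ₗ (g.symm : W →ₗ[k] V)) ∧
      ∀ (n' : ℤ) (g' : V ≃ₗ[k] W),
        (∀ i : ℤ, Submodule.map (g' : V →ₗ[k] W) (𝒱 i) = 𝒲 (i + n')) →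
        (∀ f : Module.End k V, φ f = (g' : V →ₗ[k] W) ∘ₗ f ∘ₗ (g'.symm : W →ₗ[k] V)) →
        n' = n ∧ ∃ c : kˣ, ∀ x : V, g' x = c • g x := by
  classical
  obtain ⟨T, hT⟩ := φ.eq_linearEquivConjAlgEquiv
  have hφT : ∀ f : Module.End k V, φ f = (T : V →ₗ[k] W) ∘ₗ f ∘ₗ (T.symm : W →ₗ[k] V) := by
    intro f; rw [hT]; rfl
  have key : ∀ (f : Module.End k V) (x : V), φ f (T x) = T (f x) := by
    intro f x
    rw [hφT]
    simp
  obtain ⟨i₀, v₀, hv₀, hv₀0⟩ := exists_homogeneous_ne_zero 𝒱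
  obtain ⟨μ, hμ⟩ := Module.Projective.exists_dual_eq_one k hv₀0
  -- functional supported on the piece i₀
  set lam : V →ₗ[k] k := μ ∘ₗ pr 𝒱 i₀ with hlam
  have hlam0 : lam v₀ = 1 := by
    rw [hlam, LinearMap.comp_apply, pr_of_mem 𝒱 hv₀, hμ]
  have hlam_ne : ∀ (i : ℤ) (x : V), x ∈ 𝒱 i → i ≠ i₀ → lam x = 0 := by
    intro i x hx hi
    rw [hlam, LinearMap.comp_apply, pr_of_mem_ne 𝒱 hx hi, map_zero]
  -- rank one maps
  have hdeg : ∀ (j : ℤ) (v' : V), v' ∈ 𝒱 j → ∀ (i : ℤ) (x : V), x ∈ 𝒱 i →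
      (LinearMap.smulRight lam v' : Module.End k V) x ∈ 𝒱 (i + (j - i₀)) := by
    intro j v' hv' i x hx
    rw [LinearMap.smulRight_apply]
    by_cases hi : i = i₀
    · subst hi
      have : i + (j - i) = j := by ring
      rw [this]
      exact Submodule.smul_mem _ _ hv'
    · rw [hlam_ne i x hx hi, zero_smul]
      exact Submodule.zero_mem _
  -- find the degree of T v₀
  obtain ⟨c, hc⟩ : ∃ c : ℤ, T v₀ ∈ 𝒲 c := by
    set w := T v₀ with hw
    set ν : W →ₗ[k] k := lam ∘ₗ (T.symm : W →ₗ[k] V) with hν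
    have hνw : ν w = 1 := by
      rw [hν, LinearMap.comp_apply, hw]
      simp [hlam0]
    have hsum : w = ∑ i ∈ (DirectSum.decompose 𝒲 w).support, pr 𝒲 i w :=
      (DirectSum.sum_support_decompose 𝒲 w).symm
    obtain ⟨c, -, hcν⟩ : ∃ c ∈ (DirectSum.decompose 𝒲 w).support, ν (pr 𝒲 c w) ≠ 0 := by
      by_contra hcon
      push Not at hcon
      have : ν w = 0 := by
        rw [hsum, map_sum]
        exact Finset.sum_eq_zero hcon
      rw [hνw] at this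
      exact one_ne_zero this
    refine ⟨c, ?_⟩
    have h1 := hφ (i₀ - i₀) (LinearMap.smulRight lam v₀) (hdeg i₀ v₀ hv₀) c (pr 𝒲 c w) (pr_mem 𝒲 c w)
    have h2 : φ (LinearMap.smulRight lam v₀) (pr 𝒲 c w) = ν (pr 𝒲 c w) • w := by
      have := key (LinearMap.smulRight lam v₀) (T.symm (pr 𝒲 c w))
      rw [LinearEquiv.apply_symm_apply, LinearMap.smulRight_apply, map_smul] at this
      exact this
    rw [h2, sub_self, add_zero] at h1
    have := Submodule.smul_mem (𝒲 c) (ν (pr 𝒲 c w))⁻¹ h1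
    rwa [smul_smul, inv_mul_cancel₀ hcν, one_smul] at this
  -- T shifts degrees by n = c - i₀
  have hshift : ∀ (j : ℤ) (v : V), v ∈ 𝒱 j → T v ∈ 𝒲 (j + (c - i₀)) := by
    intro j v' hv'
    have h1 := hφ (j - i₀) (LinearMap.smulRight lam v') (hdeg j v' hv') c (T v₀) hc
    rw [key, LinearMap.smulRight_apply, hlam0, one_smul] at h1
    have : c + (j - i₀) = j + (c - i₀) := by ring
    rwa [this] at h1
  refine ⟨c - i₀, T, map_eq_of_map_le 𝒱 𝒲 T (c - i₀) hshift, hφT, ?_⟩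
  intro n' g' hg' hφg'
  have hconj : g'.conjAlgEquiv k = T.conjAlgEquiv k := by
    apply AlgEquiv.ext
    intro f
    rw [LinearEquiv.conjAlgEquiv_apply, LinearEquiv.conjAlgEquiv_apply, ← hφg' f, ← hφT f]
  obtain ⟨α, hα⟩ := (LinearEquiv.conjAlgEquiv_ext_iff' g' T).mp hconj
  have hα' : ∀ x : V, g' x = α • T x := by
    intro x
    rw [hα]
    rfl
  refine ⟨?_, α, hα'⟩
  have h1 : g' v₀ ∈ 𝒲 (i₀ + n') := by
    rw [← hg' i₀]
    exact ⟨v₀, hv₀, rfl⟩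
  have h2 : g' v₀ ∈ 𝒲 (i₀ + (c - i₀)) := by
    rw [hα']
    exact Submodule.smul_mem _ _ (hshift i₀ v₀ hv₀)
  have h3 : g' v₀ ≠ 0 := by
    intro h
    exact hv₀0 (g'.map_eq_zero_iff.mp h)
  have := eq_of_mem_of_mem 𝒲 h3 h1 h2
  omega

end Main

end Groth.Agent.Lib.Helper5.GSN
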